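import Mathlib
import Groth.Agent.Lib.GrCISeries.Basic
import Groth.Agent.Lib.CIGraded.Normal
import Groth.Agent.Lib.CMFree.Params

/-!
# The Hilbert function of a one-dimensional graded complete intersection
-/

set_option autoImplicit false
set_option linter.style.haveILetI false

universe u

open MvPolynomial

namespace GrothLib.HilbBezout

variable {k : Type u} [Field k] [Infinite k] {n : ℕ}

local notation "P" => MvPolynomial (Fin (n + 1)) k
local notation "δ₁" => (1 : Fin (n + 1) → ℕ)

/-- A linear form making a one-dimensional cone zero-dimensional. -/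
theorem exists_linear (I : Ideal P) (hI : I ≤ idealOfVars (Fin (n + 1)) k) (hdim : ringKrullDim (P ⧸ I) ≤ 1) :
    ∃ l : P, l.IsHomogeneous 1 ∧ ∀ q : Ideal P, q.IsPrime → I ⊔ Ideal.span {l} ≤ q → q.IsMaximal := by
  classical
  let m : Ideal P := idealOfVars (Fin (n + 1)) k
  haveI hm : m.IsMaximal := by
    have h : m = RingHom.ker (constantCoeff (σ := Fin (n + 1)) (R := k)) :=
      Ideal.ext fun s => (CIGraded.constantCoeff_eq_zero_iff s).symm
    rw [h]
    exact RingHom.ker_isMaximal_of_surjective _ fun a => ⟨C a, constantCoeff_C _ a⟩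
  let T : Set (Ideal P) := {Q | Q ∈ I.minimalPrimes ∧ Q ≠ m}
  have hT : T.Finite := I.finite_minimalPrimes_of_isNoetherianRing P |>.subset fun Q hQ => hQ.1
  let W : hT.toFinset → Submodule k ↥(homogeneousSubmodule (Fin (n + 1)) k 1) := fun Q =>
    (Q.1.restrictScalars k).comap (homogeneousSubmodule (Fin (n + 1)) k 1).subtype
  have hW : ∀ Q, W Q ≠ ⊤ := by
    intro Q htop
    obtain ⟨hQ, hne⟩ := hT.mem_toFinset.1 Q.2
    refine hne (hm.eq_of_le hQ.1.1.ne_top ?_).symm
    show Ideal.span _ ≤ _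
    rw [Ideal.span_le]
    rintro _ ⟨i, rfl⟩
    have : (⟨X i, isHomogeneous_X k i⟩ : homogeneousSubmodule (Fin (n + 1)) k 1) ∈ W Q := htop ▸ Submodule.mem_top
    exact this
  obtain ⟨l, hl⟩ := Submodule.exists_forall_notMem_of_forall_ne_top W hW
  refine ⟨l.1, l.2, fun q hq hle => ?_⟩
  obtain ⟨Q, hQ, hQq⟩ := Ideal.exists_minimalPrimes_le (J := q) (le_sup_left.trans hle)
  haveI := hQ.1.1
  by_cases hQm : Q = m
  · rw [← hm.eq_of_le hq.ne_top (hQm ▸ hQq)]; exact hm
  have hlt : Q < q := lt_of_le_of_ne hQq fun h =>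
    hl ⟨Q, hT.mem_toFinset.2 ⟨hQ, hQm⟩⟩ (show l.1 ∈ Q from h ▸ hle (Ideal.mem_sup_right (Ideal.mem_span_singleton_self _)))
  obtain ⟨M, hM, hqM⟩ := q.exists_le_maximal hq.ne_top
  rcases hqM.eq_or_lt with h | h
  · exact h ▸ hM
  exfalso
  let z : ∀ p : Ideal P, p.IsPrime → I ≤ p → PrimeSpectrum (P ⧸ I) := fun p hp hIp =>
    ⟨p.map (Ideal.Quotient.mk I), Ideal.map_isPrime_of_surjective Ideal.Quotient.mk_surjective (by rwa [Ideal.mk_ker])⟩
  have hz : ∀ {p p' : Ideal P} (hp : p.IsPrime) (hp' : p'.IsPrime) (h : I ≤ p) (h' : I ≤ p'), p < p' → z p hp h < z p' hp' h' := by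
    intro p p' hp hp' h h' hlt
    refine lt_of_le_of_ne (Ideal.map_mono hlt.le) fun e => hlt.ne ?_
    have e' := congrArg (fun x : PrimeSpectrum (P ⧸ I) => x.asIdeal.comap (Ideal.Quotient.mk I)) e
    simpa [z, Ideal.comap_map_of_surjective _ Ideal.Quotient.mk_surjective, ← RingHom.ker_eq_comap_bot,
      sup_eq_left.2 h, sup_eq_left.2 h'] using e'
  let s : LTSeries (PrimeSpectrum (P ⧸ I)) :=
    ((RelSeries.singleton _ (z Q hQ.1.1 hQ.1.2)).snoc (z q hq (hQ.1.2.trans hQq)) (by
      simpa using hz hQ.1.1 hq hQ.1.2 (hQ.1.2.trans hQq) hlt)).snoc (z M hM.isPrime (hQ.1.2.trans (hQq.trans hqM))) (by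
      simpa using hz hq hM.isPrime (hQ.1.2.trans hQq) (hQ.1.2.trans (hQq.trans hqM)) h)
  have := (Order.LTSeries.length_le_krullDim s).trans hdim
  simp [s] at this

/-- A homogeneous sequence cutting the cone down to its vertex is regular. -/
theorem regular (g : Fin (n + 1) → P) (e : Fin (n + 1) → ℕ) (he : ∀ i, 0 < e i) (hg : ∀ i, (g i).IsHomogeneous (e i))
    (hq : ∀ q : Ideal P, q.IsPrime → Ideal.span (Set.range g) ≤ q → q.IsMaximal) (i : Fin (n + 1)) (x : P)
    (hx : g i * x ∈ Ideal.span (g '' {j | j < i})) : x ∈ Ideal.span (g '' {j | j < i}) := by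
  let m : Ideal P := RingHom.ker (constantCoeff (σ := Fin (n + 1)) (R := k))
  haveI hm : m.IsMaximal := RingHom.ker_isMaximal_of_surjective _ fun a => ⟨C a, constantCoeff_C _ a⟩
  let L := Localization.AtPrime m
  haveI : IsRegularRing P := inferInstance
  haveI : IsRegularLocalRing L := IsRegularRing.isRegularLocalRing_localization m
  have hgm : ∀ i, g i ∈ m := fun i => (hg i).coeff_eq_zero (d := 0) (by simp only [map_zero]; exact (he i).ne)
  have hdimL : ringKrullDim L = ((n + 1 : ℕ) : WithBot ℕ∞) := by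
    rw [IsLocalization.AtPrime.ringKrullDim_eq_height m L]
    haveI : IsDomain (P ⧸ m) := inferInstance
    have h := AffDom.height_add_ringKrullDim_quotient k P m
    rw [ringKrullDim_eq_zero_of_isField ((Ideal.Quotient.maximal_ideal_iff_isField_quotient m).mp inferInstance),
      add_zero, MvPolynomial.ringKrullDim_of_isNoetherianRing, ringKrullDim_eq_zero_of_field] at h
    rw [h]
    simp
  let rs : List L := (List.ofFn g).map (algebraMap P L)
  have hrs : Ideal.ofList rs = (Ideal.span (Set.range g)).map (algebraMap P L) := by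
    rw [← Ideal.map_ofList]
    congr 1
    exact congrArg Ideal.span (Set.ext fun x => List.mem_ofFn)
  have hne : Ideal.ofList rs ≠ ⊤ := by
    refine ne_top_of_le_ne_top (IsLocalRing.maximalIdeal.isMaximal L).ne_top ?_
    rw [hrs, ← Localization.AtPrime.map_eq_maximalIdeal]
    exact Ideal.map_mono (Ideal.span_le.2 (Set.range_subset_iff.2 hgm))
  have h0 : ringKrullDim (L ⧸ Ideal.ofList rs) ≤ 0 := by
    haveI : Ring.KrullDimLE 0 (L ⧸ Ideal.ofList rs) := by
      rw [Ring.krullDimLE_zero_iff]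
      intro Q hQ
      let q := Q.comap (Ideal.Quotient.mk (Ideal.ofList rs))
      haveI : q.IsPrime := Ideal.IsPrime.comap _
      have hle : Ideal.span (Set.range g) ≤ q.comap (algebraMap P L) := by
        rw [← Ideal.map_le_iff_le_comap, ← hrs]
        intro z hz
        show Ideal.Quotient.mk _ z ∈ Q
        rw [Ideal.Quotient.eq_zero_iff_mem.2 hz]
        exact zero_mem _
      have hmax := hq _ inferInstance hle
      have hle' : q.comap (algebraMap P L) ≤ m :=
        ((IsLocalization.disjoint_comap_iff m.primeCompl L q).2 (Ideal.IsPrime.ne_top inferInstance)).symm.le_compl_right.trans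
          (fun y hy => not_not.1 hy)
      have hqmax : q = IsLocalRing.maximalIdeal L := by
        rw [← IsLocalization.map_comap m.primeCompl L q, ← Localization.AtPrime.map_eq_maximalIdeal]
        exact congrArg (Ideal.map (algebraMap P L)) (hmax.eq_of_le hm.ne_top hle')
      haveI : q.IsMaximal := hqmax ▸ IsLocalRing.maximalIdeal.isMaximal L
      rw [← Ideal.map_comap_of_surjective _ Ideal.Quotient.mk_surjective Q]
      exact Ideal.IsMaximal.map_of_surjective_of_ker_le Ideal.Quotient.mk_surjective (by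
        rw [Ideal.mk_ker]; intro z hz; show Ideal.Quotient.mk _ z ∈ Q
        rw [Ideal.Quotient.eq_zero_iff_mem.2 hz]; exact zero_mem _)
    exact Ring.krullDimLE_iff.1 inferInstance
  have hreg := CMFree.isRegular_of_ringKrullDim_quotient L rs hne (by
    rw [hdimL]
    refine (add_le_add h0 le_rfl).trans ?_
    simp [rs])
  have hi : (i : ℕ) < rs.length := by simp [rs]; omega
  have h := hreg.regular_mod_prev i hi
  have hJ : Ideal.ofList (rs.take i) • (⊤ : Submodule L L) =
      (Ideal.span (g '' {j | j < i})).map (algebraMap P L) := by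
    rw [smul_eq_mul, Ideal.mul_top, ← List.map_take, ← Ideal.map_ofList]
    congr 1
    refine congrArg Ideal.span (Set.ext fun x => ?_)
    simp only [Set.mem_ofPred_eq, Set.mem_image, List.mem_take_iff_getElem, List.getElem_ofFn, List.length_ofFn]
    constructor
    · rintro ⟨j, hj, rfl⟩
      exact ⟨⟨j, by omega⟩, by simp [Fin.lt_def]; omega, rfl⟩
    · rintro ⟨j, hj, rfl⟩
      exact ⟨j, by rw [Fin.lt_def] at hj; omega, rfl⟩
  have hxL : algebraMap P L x ∈ (Ideal.span (g '' {j | j < i})).map (algebraMap P L) := by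
    rw [← hJ, ← Submodule.Quotient.mk_eq_zero]
    refine h.right_eq_zero_of_smul ?_
    rw [← Submodule.Quotient.mk_smul, Submodule.Quotient.mk_eq_zero, hJ]
    simp only [rs, List.getElem_map, List.getElem_ofFn, smul_eq_mul, ← map_mul]
    exact Ideal.mem_map_of_mem _ hx
  obtain ⟨s, hs, hsx⟩ := (IsLocalization.algebraMap_mem_map_algebraMap_iff m.primeCompl L _ _).1 hxL
  refine CIGraded.mem_of_mul_mem_of_constantCoeff_ne_zero ?_ hs hsx
  letI := MvPolynomial.gradedAlgebra (σ := Fin (n + 1)) (R := k)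
  exact Ideal.homogeneous_span _ _ (by rintro _ ⟨j, -, rfl⟩; exact ⟨e j, (mem_homogeneousSubmodule _ _).mpr (hg j)⟩)

theorem hilbertFunction (f : Fin n → P) (d : Fin n → ℕ) (hd : ∀ i, 1 ≤ d i) (hf : ∀ i, (f i).IsHomogeneous (d i))
    (hdim : ringKrullDim (P ⧸ Ideal.span (Set.range f)) ≤ 1) :
    ∃ m₀ : ℕ, ∀ m : ℕ, m₀ ≤ m →
      Module.finrank k ↥(homogeneousSubmodule (Fin (n + 1)) k m) -
        Module.finrank k ↥((Ideal.span (Set.range f)).restrictScalars k ⊓ homogeneousSubmodule (Fin (n + 1)) k m) =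
      ∏ i : Fin n, d i := by
  classical
  set I := Ideal.span (Set.range f)
  have hI : I ≤ idealOfVars (Fin (n + 1)) k := Ideal.span_le.2 (Set.range_subset_iff.2 fun i =>
    (CIGraded.constantCoeff_eq_zero_iff _).1 ((hf i).coeff_eq_zero (d := 0) (by simp only [map_zero]; exact Nat.ne_of_lt (hd i))))
  obtain ⟨l, hl, hq⟩ := exists_linear I hI hdim
  let g : Fin (n + 1) → P := Fin.snoc f l
  let e : Fin (n + 1) → ℕ := Fin.snoc d 1
  have he : ∀ i, 0 < e i := fun i => by
    induction i using Fin.lastCases with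
    | last => simp [e]
    | cast j => simp only [e, Fin.snoc_castSucc]; exact hd j
  have hg : ∀ i, (g i).IsHomogeneous (e i) := fun i => by
    induction i using Fin.lastCases with
    | last => simpa [g, e] using hl
    | cast j => simpa [g, e] using hf j
  have hreg := regular g e he hg fun q hq' hle => hq q hq' (sup_le
    (Ideal.span_le.2 (Set.range_subset_iff.2 fun i => hle (Ideal.subset_span ⟨i.castSucc, by simp [g]⟩)))
    (Ideal.span_le.2 (Set.singleton_subset_iff.2 (hle (Ideal.subset_span ⟨Fin.last n, by simp [g]⟩)))))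
  have hprev : ∀ i : Fin n, g '' {j | j < i.castSucc} = f '' {j | j < i} := by
    intro i
    ext x
    constructor
    · rintro ⟨j, hj, rfl⟩
      induction j using Fin.lastCases with
      | last => exact absurd hj (not_lt.2 (Fin.le_last _))
      | cast j => exact ⟨j, by simpa using hj, by simp [g]⟩
    · rintro ⟨j, hj, rfl⟩; exact ⟨j.castSucc, by simpa using hj, by simp [g]⟩
  have h1 := GrCISeries.ser_iterate (δ := δ₁) (fun _ => Nat.one_pos) f d hd hf fun i x hx => by
    rw [← hprev] at hx ⊢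
    exact hreg i.castSucc x (by simpa [g] using hx)
  have h0 := GrCISeries.ser_bot_mul (F := k) (δ := δ₁) fun _ => Nat.one_pos
  simp only [Pi.one_apply, pow_one, Finset.prod_const, Finset.card_univ, Fintype.card_fin] at h0
  let Q : Polynomial ℤ := ∏ i, ∑ j ∈ Finset.range (d i), Polynomial.X ^ j
  let one' : PowerSeries ℤ := PowerSeries.mk 1
  have hser : GrCISeries.ser δ₁ I = (Q : PowerSeries ℤ) * one' := by
    have hQ : (Q : PowerSeries ℤ) * (1 - PowerSeries.X) ^ n = ∏ i, (1 - (PowerSeries.X : PowerSeries ℤ) ^ d i) := by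
      have : Q * (1 - Polynomial.X) ^ n = ∏ i, (1 - (Polynomial.X : Polynomial ℤ) ^ d i) := by
        rw [← Fin.prod_const, ← Finset.prod_mul_distrib]
        exact Finset.prod_congr rfl fun i _ => geom_sum_mul_neg _ _
      have h := congrArg (Polynomial.coeToPowerSeries.ringHom (R := ℤ)) this
      simpa [map_prod] using h
    have hgeo : one' * (1 - PowerSeries.X) = 1 := PowerSeries.mk_one_mul_one_sub_eq_one ℤ
    calc GrCISeries.ser δ₁ I = GrCISeries.ser δ₁ I * 1 := (mul_one _).symm
      _ = (Q : PowerSeries ℤ) * (1 - PowerSeries.X) ^ n * GrCISeries.ser δ₁ ⊥ * 1 := by rw [h1, hQ]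
      _ = (Q : PowerSeries ℤ) * (1 - PowerSeries.X) ^ n * GrCISeries.ser δ₁ ⊥ * (one' * (1 - PowerSeries.X)) := by rw [hgeo]
      _ = (Q : PowerSeries ℤ) * one' * (GrCISeries.ser (F := k) δ₁ ⊥ * (1 - PowerSeries.X) ^ (n + 1)) := by ring
      _ = _ := by rw [h0, mul_one]
  refine ⟨Q.natDegree, fun m hm => ?_⟩
  have hc : (Module.finrank k ↥(GrCISeries.piece δ₁ I m) : ℤ) = ∏ i, (d i : ℤ) := by
    have h := congrArg (PowerSeries.coeff m) hser
    rw [GrCISeries.ser, PowerSeries.coeff_mk, PowerSeries.coeff_mul,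
      Finset.Nat.sum_antidiagonal_eq_sum_range_succ (fun a b => PowerSeries.coeff a (Q : PowerSeries ℤ) * PowerSeries.coeff b one')] at h
    rw [h]
    simp only [one', PowerSeries.coeff_mk, Pi.one_apply, mul_one, Polynomial.coeff_coe]
    rw [show (∏ i, (d i : ℤ)) = Q.eval 1 by simp [Q, Polynomial.eval_prod],
      Polynomial.eval_eq_sum_range' (Nat.lt_succ_of_le hm)]
    simp
  let M : Submodule k P := homogeneousSubmodule (Fin (n + 1)) k m
  haveI : Module.Finite k M := Module.Finite.iff_fg.2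
    (weightedHomogeneousSubmodule_fg k δ₁ (fun _ => one_ne_zero) m)
  let φ : M →ₗ[k] P ⧸ I := (Ideal.Quotient.mkₐ k I).toLinearMap ∘ₗ M.subtype
  have hrange : LinearMap.range φ = GrCISeries.piece δ₁ I m := by
    rw [LinearMap.range_comp, Submodule.range_subtype]; rfl
  have hker : (LinearMap.ker φ).map M.subtype = I.restrictScalars k ⊓ M := by
    ext x
    constructor
    · rintro ⟨⟨y, hy⟩, hy', rfl⟩; exact ⟨Ideal.Quotient.eq_zero_iff_mem.1 hy', hy⟩
    · rintro ⟨h1, h2⟩; exact ⟨⟨x, h2⟩, Ideal.Quotient.eq_zero_iff_mem.2 h1, rfl⟩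
  have h2 := LinearMap.finrank_range_add_finrank_ker φ
  rw [hrange, ← Submodule.finrank_map_subtype_eq M, hker] at h2
  have hc' : Module.finrank k ↥(GrCISeries.piece δ₁ I m) = ∏ i, d i := by exact_mod_cast hc
  show Module.finrank k M - _ = _
  rw [← h2, hc', Nat.add_sub_cancel]

end GrothLib.HilbBezout
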